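import Groth.Agent.W4c4Lib.PolarParts

/-!
# Vanishing orders of sums of polar parts
-/

open Polynomial

namespace Groth.Agent.W4c4Lib.Polar

variable {k : Type*} [Field k] [CharZero k] {m : ℕ} {r : Fin m → k} {a : Fin m → ℕ}

theorem prod_succ (i : Fin m) :
    ∏ j ∈ Finset.univ.erase i, (X - C (r j)) ^ (a j + 1) = Qi r a i * Ri r i := by
  rw [Qi, Ri, ← Finset.prod_mul_distrib]
  simp [pow_succ]

theorem prod_succ_univ : ∏ j, (X - C (r j)) ^ (a j + 1) = Q r a * R r := by
  rw [Q, R, ← Finset.prod_mul_distrib]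
  simp [pow_succ]

theorem mul_degreeLT_le {b : ℕ} :
    (degreeLT k b).map (LinearMap.mulLeft k (Q r a * R r)) ≤
      (degreeLT k ((∑ j, a j) + b + 1)).map (T r a) := by
  classical
  rw [Submodule.map_le_iff_le_comap, degreeLT_eq_span_X_pow, Submodule.span_le]
  intro p hp
  simp only [Finset.coe_image, Finset.coe_range, Set.mem_image, Set.mem_Iio] at hp
  obtain ⟨l, hl, rfl⟩ := hp
  refine ⟨((l + 1 : ℕ) : k)⁻¹ • (Q r a * X ^ (l + 1)), ?_, ?_⟩
  · refine Submodule.smul_mem _ _ ?_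
    rw [mem_degreeLT,
      degree_eq_natDegree (mul_ne_zero (Q_ne_zero r a) (pow_ne_zero _ X_ne_zero)), Nat.cast_lt,
      natDegree_mul (Q_ne_zero r a) (pow_ne_zero _ X_ne_zero), natDegree_Q, natDegree_X_pow]
    omega
  · rw [map_smul, T_Q_mul, LinearMap.mulLeft_apply, derivative_X_pow, Nat.add_sub_cancel,
      ← mul_smul_comm, smul_eq_C_mul, ← mul_assoc (C _), ← C_mul,
      inv_mul_cancel₀ (Nat.cast_ne_zero.2 (Nat.succ_ne_zero l)), C_1, one_mul]

theorem mul_degreeLT_le' (b : ℕ) (i : Fin m) :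
    (degreeLT k (a i)).map (LinearMap.mulLeft k (Qi r a i * Ri r i)) ≤
      (degreeLT k ((∑ j, a j) + b + 1)).map (T r a) := by
  rw [Submodule.map_le_iff_le_comap]
  intro g hg
  rw [← Polynomial.sum_taylor_eq g (r i), Polynomial.sum_def]
  refine Submodule.sum_mem _ fun l hl => ?_
  have hl' : l < a i := by
    have h1 : l ≤ (taylor (r i) g).natDegree := le_natDegree_of_mem_supp _ hl
    rw [natDegree_taylor] at h1
    rcases eq_or_ne g 0 with rfl | hg0
    · simp at hl
    rw [mem_degreeLT, degree_eq_natDegree hg0, Nat.cast_lt] at hg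
    omega
  refine ⟨((taylor (r i) g).coeff l / ((l : k) - (a i : k))) • (Qi r a i * (X - C (r i)) ^ l),
    Submodule.smul_mem _ _ ?_, ?_⟩
  · rw [mem_degreeLT]
    have h0 : Qi r a i ≠ 0 :=
      Finset.prod_ne_zero_iff.2 fun j _ => pow_ne_zero _ (X_sub_C_ne_zero _)
    have h1 : (X - C (r i)) ^ l ≠ 0 := pow_ne_zero _ (X_sub_C_ne_zero _)
    have h2 := natDegree_Q r a
    rw [Q_eq r a i, natDegree_mul (pow_ne_zero _ (X_sub_C_ne_zero _)) h0, natDegree_pow,
      natDegree_X_sub_C] at h2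
    rw [degree_eq_natDegree (mul_ne_zero h0 h1), Nat.cast_lt, natDegree_mul h0 h1, natDegree_pow,
      natDegree_X_sub_C]
    omega
  · rw [map_smul, T_Qi_mul, LinearMap.mulLeft_apply, derivative_X_sub_C_pow]
    have h2 : (l : k) - (a i : k) ≠ 0 := sub_ne_zero.2 (by exact_mod_cast hl'.ne)
    have h3 : (X - C (r i)) * (C (l : k) * (X - C (r i)) ^ (l - 1)) =
        C (l : k) * (X - C (r i)) ^ l := by
      rcases l with _ | l
      · simp
      · rw [Nat.add_sub_cancel, pow_succ]; ring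
    rw [h3, ← sub_mul, ← C_sub, ← mul_smul_comm, smul_eq_C_mul, ← mul_assoc (C _), ← C_mul,
      div_mul_cancel₀ _ h2]

theorem mem_of_degreeLT (hr : Function.Injective r) (b : ℕ) (P : k[X])
    (hP : P ∈ degreeLT k ((∑ j, a j) + b + 1)) :
    ∃ (g : Fin m → k[X]) (q : k[X]), (∀ i, g i ∈ degreeLT k (a i)) ∧ q ∈ degreeLT k (b + 1) ∧
      P = (∑ i, Qi r a i * g i) + Q r a * q := by
  classical
  rcases Nat.eq_zero_or_pos m with h | h
  · subst h
    refine ⟨fun i => i.elim0, P, fun i => i.elim0, by simpa using hP, by simp [Q]⟩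
  have : Nonempty (Fin m) := ⟨⟨0, h⟩⟩
  have hco : Pairwise (Function.onFun IsCoprime fun j : Fin m => (X - C (r j)) ^ a j) :=
    fun i j hij => ((pairwise_coprime_X_sub_C hr) hij).pow
  obtain ⟨μ, hμ⟩ := exists_sum_eq_one_iff_pairwise_coprime'.2 hco
  have hQi : ∀ i : Fin m, ∏ j ∈ ({i}ᶜ : Finset (Fin m)), (X - C (r j)) ^ a j = Qi r a i :=
    fun i => by rw [Qi, Finset.compl_singleton]
  simp only [hQi] at hμ
  let g : Fin m → k[X] := fun i => (P * μ i) %ₘ ((X - C (r i)) ^ a i)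
  have hg : ∀ i, g i ∈ degreeLT k (a i) := fun i => by
    rw [mem_degreeLT]
    refine lt_of_lt_of_le (degree_modByMonic_lt _ ((monic_X_sub_C _).pow _)) ?_
    rw [degree_pow, degree_X_sub_C, nsmul_one]
  let q : k[X] := ∑ i, (P * μ i) /ₘ ((X - C (r i)) ^ a i)
  have heq : P = (∑ i, Qi r a i * g i) + Q r a * q := by
    rw [Finset.mul_sum, ← Finset.sum_add_distrib]
    calc P = ∑ i, P * (μ i * Qi r a i) := by rw [← Finset.mul_sum, hμ, mul_one]
      _ = _ := Finset.sum_congr rfl fun i _ => by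
        conv_lhs => rw [← mul_assoc, ← modByMonic_add_div (P * μ i) ((X - C (r i)) ^ a i)]
        rw [Q_eq r a i]
        ring
  refine ⟨g, q, hg, ?_, heq⟩
  rcases eq_or_ne q 0 with hq | hq
  · rw [hq]; exact zero_mem _
  have hsum : ∑ i, Qi r a i * g i ∈ degreeLT k ((∑ j, a j) + b + 1) := by
    refine Submodule.sum_mem _ fun i _ => ?_
    rcases eq_or_ne (g i) 0 with h0 | h0
    · rw [h0, mul_zero]; exact zero_mem _
    have h1 : Qi r a i ≠ 0 :=
      Finset.prod_ne_zero_iff.2 fun j _ => pow_ne_zero _ (X_sub_C_ne_zero _)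
    have h2 := natDegree_Q r a
    rw [Q_eq r a i, natDegree_mul (pow_ne_zero _ (X_sub_C_ne_zero _)) h1, natDegree_pow,
      natDegree_X_sub_C] at h2
    have h3 := hg i
    rw [mem_degreeLT, degree_eq_natDegree h0, Nat.cast_lt] at h3
    rw [mem_degreeLT, degree_eq_natDegree (mul_ne_zero h1 h0), Nat.cast_lt, natDegree_mul h1 h0]
    omega
  have h4 : Q r a * q ∈ degreeLT k ((∑ j, a j) + b + 1) := by
    rw [eq_sub_of_add_eq' heq.symm]
    exact Submodule.sub_mem _ hP hsum
  rw [mem_degreeLT, degree_eq_natDegree (mul_ne_zero (Q_ne_zero r a) hq), Nat.cast_lt,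
    natDegree_mul (Q_ne_zero r a) hq, natDegree_Q] at h4
  rw [mem_degreeLT, degree_eq_natDegree hq, Nat.cast_lt]
  omega

/-- The space of polar parts is the image of `T`. -/
theorem map_T_eq (hr : Function.Injective r) (b : ℕ) :
    (degreeLT k b).map (LinearMap.mulLeft k (∏ j, (X - C (r j)) ^ (a j + 1))) ⊔
      ⨆ i, (degreeLT k (a i)).map
        (LinearMap.mulLeft k (∏ j ∈ Finset.univ.erase i, (X - C (r j)) ^ (a j + 1))) =
      (degreeLT k ((∑ j, a j) + b + 1)).map (T r a) := by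
  simp only [prod_succ, prod_succ_univ]
  refine le_antisymm (sup_le mul_degreeLT_le (iSup_le (mul_degreeLT_le' b))) ?_
  rintro _ ⟨P, hP, rfl⟩
  obtain ⟨g, q, hg, hq, rfl⟩ := mem_of_degreeLT hr b P hP
  rw [map_add, map_sum, T_Q_mul]
  refine add_mem (Submodule.sum_mem _ fun i _ => Submodule.mem_sup_right
    (Submodule.mem_iSup_of_mem i ?_)) (Submodule.mem_sup_left ⟨derivative q, ?_, rfl⟩)
  · rw [T_Qi_mul]
    refine ⟨(X - C (r i)) * derivative (g i) - C (a i : k) * g i, ?_, rfl⟩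
    have hgi := hg i
    rw [SetLike.mem_coe]
    refine sub_mem ?_ ?_
    · rcases eq_or_ne (derivative (g i)) 0 with h0 | h0
      · rw [h0, mul_zero]; exact zero_mem _
      have h1 : g i ≠ 0 := fun h => h0 (by simp [h])
      have h2 : (g i).natDegree ≠ 0 := fun h => h0 (derivative_of_natDegree_zero h)
      have h3 := natDegree_derivative_le (g i)
      rw [mem_degreeLT, degree_eq_natDegree h1, Nat.cast_lt] at hgi
      rw [mem_degreeLT, degree_eq_natDegree (mul_ne_zero (X_sub_C_ne_zero _) h0), Nat.cast_lt,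
        natDegree_mul (X_sub_C_ne_zero _) h0, natDegree_X_sub_C]
      omega
    · rw [← smul_eq_C_mul]; exact Submodule.smul_mem _ _ hgi
  · rw [SetLike.mem_coe, mem_degreeLT]
    rcases eq_or_ne (derivative q) 0 with h0 | h0
    · rw [h0, degree_zero]; exact WithBot.bot_lt_coe _
    have h1 : q ≠ 0 := fun h => h0 (by simp [h])
    have h2 : q.natDegree ≠ 0 := fun h => h0 (derivative_of_natDegree_zero h)
    have h3 := natDegree_derivative_le q
    rw [mem_degreeLT, degree_eq_natDegree h1, Nat.cast_lt] at hq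
    rw [degree_eq_natDegree h0, Nat.cast_lt]
    omega

theorem finrank_degreeLT (n : ℕ) : Module.finrank k (degreeLT k n) = n := by
  rw [(degreeLTEquiv k n).finrank_eq, Module.finrank_fin_fun]

instance (n : ℕ) : FiniteDimensional k (degreeLT k n) :=
  LinearEquiv.finiteDimensional (degreeLTEquiv k n).symm

theorem degreeLT_inf_span (x : k) (n L : ℕ) :
    degreeLT k L ⊓ (Ideal.span {(X - C x) ^ n}).restrictScalars k =
      (degreeLT k (L - n)).map (LinearMap.mulLeft k ((X - C x) ^ n)) := by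
  have h0 : (X - C x) ^ n ≠ 0 := pow_ne_zero _ (X_sub_C_ne_zero _)
  ext P
  simp only [Submodule.mem_inf, Submodule.restrictScalars_mem, Ideal.mem_span_singleton,
    Submodule.mem_map, LinearMap.mulLeft_apply]
  constructor
  · rintro ⟨hP, u, rfl⟩
    refine ⟨u, ?_, rfl⟩
    rcases eq_or_ne u 0 with rfl | hu
    · exact zero_mem _
    rw [mem_degreeLT, degree_eq_natDegree (mul_ne_zero h0 hu), Nat.cast_lt,
      natDegree_mul h0 hu, natDegree_pow, natDegree_X_sub_C] at hP
    rw [mem_degreeLT, degree_eq_natDegree hu, Nat.cast_lt]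
    omega
  · rintro ⟨u, hu, rfl⟩
    refine ⟨?_, dvd_mul_right _ _⟩
    rcases eq_or_ne u 0 with rfl | hu0
    · rw [mul_zero]; exact zero_mem _
    rw [mem_degreeLT, degree_eq_natDegree hu0, Nat.cast_lt] at hu
    rw [mem_degreeLT, degree_eq_natDegree (mul_ne_zero h0 hu0), Nat.cast_lt,
      natDegree_mul h0 hu0, natDegree_pow, natDegree_X_sub_C]
    omega

theorem finrank_degreeLT_inf_span (x : k) (n L : ℕ) :
    Module.finrank k ↥(degreeLT k L ⊓ (Ideal.span {(X - C x) ^ n}).restrictScalars k) = L - n := by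
  rw [degreeLT_inf_span, ← (Submodule.equivMapOfInjective _
    (mul_right_injective₀ (pow_ne_zero n (X_sub_C_ne_zero x))) _).finrank_eq, finrank_degreeLT]

theorem finrank_map_T (U : Submodule k k[X]) [FiniteDimensional k U] :
    (Q r a ∈ U → Module.finrank k ↥(U.map (T r a)) + 1 = Module.finrank k U) ∧
      (Q r a ∉ U → Module.finrank k ↥(U.map (T r a)) = Module.finrank k U) := by
  have h := LinearMap.finrank_range_add_finrank_ker ((T r a).domRestrict U)
  rw [LinearMap.range_domRestrict] at h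
  constructor
  · intro hQ
    have h1 : LinearMap.ker ((T r a).domRestrict U) = Submodule.span k {⟨Q r a, hQ⟩} := by
      ext ⟨P, hP⟩
      simp [T_eq_zero_iff, Submodule.mem_span_singleton, Subtype.ext_iff]
    rw [h1, finrank_span_singleton (fun h0 => Q_ne_zero r a (congrArg Subtype.val h0))] at h
    exact h
  · intro hQ
    have h1 : LinearMap.ker ((T r a).domRestrict U) = ⊥ := by
      rw [eq_bot_iff]
      rintro ⟨P, hP⟩ h0
      obtain ⟨c, rfl⟩ := Submodule.mem_span_singleton.1 ((T_eq_zero_iff r a P).1 h0)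
      rcases eq_or_ne c 0 with rfl | hc
      · simp
      exact absurd ((Submodule.smul_mem_iff _ hc).1 hP) hQ
    rw [h1, finrank_bot, add_zero] at h
    exact h

variable {b N : ℕ}

theorem finrank_all (hN : N = (∑ j, a j) + b) :
    Module.finrank k ↥((degreeLT k (N + 1)).map (T r a)) = N := by
  have h : Q r a ∈ degreeLT k (N + 1) := by
    rw [mem_degreeLT, degree_eq_natDegree (Q_ne_zero r a), Nat.cast_lt, natDegree_Q]; omega
  have := (finrank_map_T (degreeLT k (N + 1))).1 h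
  rw [finrank_degreeLT] at this
  omega

theorem finrank_vanishing (hr : Function.Injective r) (hN : N = (∑ j, a j) + b) (i : Fin m) (n : ℕ) :
    Module.finrank k ↥((degreeLT k (N + 1)).map (T r a) ⊓
      (Ideal.span {(X - C (r i)) ^ n}).restrictScalars k) =
        if n ≤ a i then N - n else N + 1 - n := by
  have hQmem : Q r a ∈ degreeLT k (N + 1) := by
    rw [mem_degreeLT, degree_eq_natDegree (Q_ne_zero r a), Nat.cast_lt, natDegree_Q]; omega
  set U := degreeLT k (N + 1) ⊓ (Ideal.span {(X - C (r i)) ^ n}).restrictScalars k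
  have : FiniteDimensional k U := Submodule.finiteDimensional_of_le inf_le_left
  have e : (degreeLT k (N + 1)).map (T r a) ⊓ (Ideal.span {(X - C (r i)) ^ n}).restrictScalars k =
      U.map (T r a) := by
    refine le_antisymm ?_ (le_inf (Submodule.map_mono inf_le_left) ?_)
    · rintro _ ⟨⟨P, hP, rfl⟩, h⟩
      obtain ⟨c, hc⟩ := (dvd_T_iff i hr n P).1 (Ideal.mem_span_singleton.1 h)
      exact ⟨P - c • Q r a, ⟨sub_mem hP (Submodule.smul_mem _ c hQmem),
        Ideal.mem_span_singleton.2 hc⟩, T_sub_smul_Q r a c P⟩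
    · rintro _ ⟨P, ⟨-, hP⟩, rfl⟩
      exact Ideal.mem_span_singleton.2
        ((dvd_T_iff i hr n P).2 ⟨0, by simpa using Ideal.mem_span_singleton.1 hP⟩)
  rw [e]
  have hU : Module.finrank k U = N + 1 - n := finrank_degreeLT_inf_span _ _ _
  have hai : a i ≤ N := hN ▸ (Finset.single_le_sum (fun j _ => Nat.zero_le (a j))
    (Finset.mem_univ i)).trans (Nat.le_add_right _ _)
  split_ifs with hn
  · have hQ : Q r a ∈ U := ⟨hQmem, Ideal.mem_span_singleton.2
      (by rw [Q_eq r a i]; exact (pow_dvd_pow _ hn).mul_right _)⟩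
    have := (finrank_map_T U).1 hQ
    omega
  · have hQ : Q r a ∉ U := fun h => by
      have h1 := (pow_dvd_pow (X - C (r i)) (show a i + 1 ≤ n by omega)).trans
        (Ideal.mem_span_singleton.1 h.2)
      rw [Q_eq r a i, pow_succ, mul_dvd_mul_iff_left (pow_ne_zero _ (X_sub_C_ne_zero _)),
        dvd_iff_isRoot] at h1
      exact Qi_eval_ne i hr h1
    rw [(finrank_map_T U).2 hQ, hU]

theorem finrank_infty (hm : m = 0 → ∑ j, a j = 0) (hN : N = (∑ j, a j) + b) {d : ℕ}
    (hd : d + 1 = (∑ j, (a j + 1)) + b) (n : ℕ) :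
    Module.finrank k ↥((degreeLT k (N + 1)).map (T r a) ⊓ degreeLT k (d + 1 - n)) =
        if n ≤ b then N - n else N + 1 - n := by
  have hd' : d + 1 = (∑ j, a j) + m + b := by
    rw [hd, Finset.sum_add_distrib]; simp
  have hLM : ∀ p, p ≠ (∑ j, a j) → 0 < p + m → (p + m - 1 < d + 1 - n ↔ p < N + 1 - n) := by
    intro p hp hpos; omega
  have hQmem : Q r a ∈ degreeLT k (N + 1) := by
    rw [mem_degreeLT, degree_eq_natDegree (Q_ne_zero r a), Nat.cast_lt, natDegree_Q]; omega
  have e : (degreeLT k (N + 1)).map (T r a) ⊓ degreeLT k (d + 1 - n) =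
      (degreeLT k (N + 1 - n)).map (T r a) := by
    refine le_antisymm ?_ ?_
    · rintro _ ⟨⟨P, -, rfl⟩, h⟩
      obtain ⟨c, hc⟩ := (degree_T_iff r a _ _ hLM hm P).1 h
      exact ⟨P - c • Q r a, hc, T_sub_smul_Q r a c P⟩
    · rintro _ ⟨P, hP, rfl⟩
      exact ⟨⟨P, degreeLT_mono (Nat.sub_le _ _) hP, rfl⟩,
        (degree_T_iff r a _ _ hLM hm P).2 ⟨0, by simpa using hP⟩⟩
  rw [e]
  have hiff : Q r a ∈ degreeLT k (N + 1 - n) ↔ n ≤ b := by
    rw [mem_degreeLT, degree_eq_natDegree (Q_ne_zero r a), Nat.cast_lt, natDegree_Q]; omega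
  have hU := finrank_degreeLT (k := k) (N + 1 - n)
  split_ifs with hn
  · have := (finrank_map_T (degreeLT k (N + 1 - n))).1 (hiff.2 hn)
    omega
  · rw [(finrank_map_T (degreeLT k (N + 1 - n))).2 (mt hiff.1 hn), hU]

theorem unmarked (hN : N = (∑ j, a j) + b) (q : k) (hq : ∀ j, q ≠ r j) :
    (degreeLT k (N + 1)).map (T r a) ⊓ (Ideal.span {(X - C q) ^ N}).restrictScalars k = ⊥ := by
  rcases Nat.eq_zero_or_pos N with h | h
  · have := finrank_all (r := r) (a := a) hN
    rw [h] at this ⊢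
    rw [Submodule.finrank_eq_zero.1 this, bot_inf_eq]
  rw [eq_bot_iff]
  rintro _ ⟨⟨P, hP, rfl⟩, hT⟩
  have hdvd : (X - C q) ^ N ∣ T r a P := Ideal.mem_span_singleton.1 hT
  have hQq : (Q r a).eval q ≠ 0 := by
    simp only [Q, eval_prod, eval_pow, eval_sub, eval_X, eval_C]
    exact Finset.prod_ne_zero_iff.2 fun j _ => pow_ne_zero _ (sub_ne_zero.2 (hq j))
  have hRq : (R r).eval q ≠ 0 := by
    simp only [R, eval_prod, eval_sub, eval_X, eval_C]
    exact Finset.prod_ne_zero_iff.2 fun j _ => sub_ne_zero.2 (hq j)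
  set P₁ := P - (P.eval q / (Q r a).eval q) • Q r a with hP₁
  rw [Submodule.mem_bot, ← T_sub_smul_Q r a (P.eval q / (Q r a).eval q) P, ← hP₁]
  rw [← T_sub_smul_Q r a (P.eval q / (Q r a).eval q) P, ← hP₁] at hdvd
  rcases eq_or_ne P₁ 0 with h0 | h0
  · rw [h0, map_zero]
  exfalso
  have hP₁mem : P₁ ∈ degreeLT k (N + 1) := sub_mem hP (Submodule.smul_mem _ _ (by
    rw [mem_degreeLT, degree_eq_natDegree (Q_ne_zero r a), Nat.cast_lt, natDegree_Q]; omega))
  have heval : P₁.eval q = 0 := by simp [hP₁, hQq]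
  obtain ⟨u, hu, hnd⟩ := exists_eq_pow_rootMultiplicity_mul_and_not_dvd _ h0 q
  set e := P₁.rootMultiplicity q
  have he : 0 < e := (rootMultiplicity_pos h0).2 heval
  have hu0 : u ≠ 0 := fun h1 => hnd (by simp [h1])
  rw [mem_degreeLT, degree_eq_natDegree h0, Nat.cast_lt, hu,
    natDegree_mul (pow_ne_zero _ (X_sub_C_ne_zero _)) hu0, natDegree_pow, natDegree_X_sub_C]
    at hP₁mem
  obtain ⟨f, hf⟩ : ∃ f, e = f + 1 := ⟨e - 1, by omega⟩
  have hTP : T r a P₁ = (X - C q) ^ f * (C (e : k) * R r * u +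
      (X - C q) * (R r * derivative u - S r a * u)) := by
    rw [hu, T_apply, derivative_mul, derivative_X_sub_C_pow, hf, Nat.add_sub_cancel, pow_succ]
    ring
  rw [hTP] at hdvd
  have h2 := (mul_dvd_mul_iff_left (pow_ne_zero f (X_sub_C_ne_zero q))).1
    ((pow_succ (X - C q) f) ▸ (pow_dvd_pow _ (show f + 1 ≤ N by omega)).trans hdvd)
  have h3 : (e : k) * (R r).eval q * u.eval q = 0 := by
    simpa [IsRoot] using dvd_iff_isRoot.1 h2
  have h4 : u.eval q ≠ 0 := fun h5 => hnd (dvd_iff_isRoot.2 h5)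
  simp [hRq, h4, he.ne'] at h3

end Groth.Agent.W4c4Lib.Polar
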