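import Groth.Agent.W4c4Lib.PolarSpace

/-!
# Hyperplanes in sums of polar parts: weights and simple ramification
-/

open Polynomial

namespace Groth.Agent.W4c4Lib.Polar

variable {k : Type*} [Field k]

theorem finrank_inf_of_not_le {E : Type*} [AddCommGroup E] [Module k E] {V V₁ U : Submodule k E}
    [FiniteDimensional k V] (h₁ : V₁ ≤ V) (hU : U ≤ V) (hfin : Module.finrank k V₁ + 1 = Module.finrank k V)
    (hnot : ¬ U ≤ V₁) : Module.finrank k ↥(V₁ ⊓ U) + 1 = Module.finrank k U := by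
  have : FiniteDimensional k V₁ := Submodule.finiteDimensional_of_le h₁
  have : FiniteDimensional k U := Submodule.finiteDimensional_of_le hU
  have : FiniteDimensional k ↥(V₁ ⊔ U) := Submodule.finiteDimensional_of_le (sup_le h₁ hU)
  have h := Submodule.finrank_sup_add_finrank_inf_eq V₁ U
  have h2 := Submodule.finrank_mono (sup_le h₁ hU)
  have h3 : Module.finrank k V₁ < Module.finrank k ↥(V₁ ⊔ U) :=
    Submodule.finrank_lt_finrank_of_lt (lt_of_le_of_ne le_sup_left fun he => hnot (he ▸ le_sup_right))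
  omega

theorem sum_orders (a N d : ℕ) (ha : a ≤ N) (hd : N ≤ d ∨ (N = d + 1 ∧ a = N)) :
    ∑ n ∈ Finset.range d, (if n + 1 ≤ a then N - (n + 1) else N + 1 - (n + 1)) = N.choose 2 + (N - a) := by
  have h1 : ∀ n, (if n + 1 ≤ a then N - (n + 1) else N + 1 - (n + 1)) =
      (N - 1 - n) + (if a ≤ n ∧ n < N then 1 else 0) := by
    intro n
    split_ifs <;> omega
  simp only [h1]
  have h2 : ∑ n ∈ Finset.range N, ((N - 1 - n) + (if a ≤ n ∧ n < N then 1 else 0)) = N.choose 2 + (N - a) := by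
    rw [Finset.sum_add_distrib, Finset.sum_range_reflect (fun n => n) N, Finset.sum_range_id, Nat.choose_two_right]
    congr 1
    rw [Finset.sum_boole]
    have : (Finset.range N).filter (fun n => a ≤ n ∧ n < N) = Finset.Ico a N := by
      ext x; simp
    rw [this]; simp
  rw [← h2]
  rcases hd with hd | ⟨hd, ha'⟩
  · refine (Finset.sum_subset (Finset.range_subset_range.2 hd) fun x _ hx => ?_).symm
    rw [Finset.mem_range, not_lt] at hx
    rw [if_neg (fun h => absurd h.2 (not_lt.2 hx))]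
    omega
  · subst hd
    rw [Finset.sum_range_succ, if_neg (fun h => absurd h.1 (by omega))]
    omega

/-- The sum of the dimensions cut on a hyperplane by a decreasing chain of subspaces. -/
theorem sum_hyperplane {E : Type*} [AddCommGroup E] [Module k E] {V V₁ : Submodule k E}
    [FiniteDimensional k V] (h₁ : V₁ ≤ V) (hfin : Module.finrank k V₁ + 1 = Module.finrank k V)
    (F : ℕ → Submodule k E) (L d : ℕ) (hLd : L ≤ d) (hlow : ∀ n, n < L → ¬ V ⊓ F n ≤ V₁)
    (hhigh : ∀ n, L < n → V ⊓ F n ≤ V₁) :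
    ∃ ε : ℕ, ε ≤ 1 ∧ (∑ n ∈ Finset.range d, Module.finrank k ↥(V₁ ⊓ F n)) + L + ε =
      ∑ n ∈ Finset.range d, Module.finrank k ↥(V ⊓ F n) := by
  classical
  have heq : ∀ n, V₁ ⊓ F n = V₁ ⊓ (V ⊓ F n) := fun n => by rw [← inf_assoc, inf_eq_left.2 h₁]
  have hterm : ∀ n, Module.finrank k ↥(V₁ ⊓ F n) + (if V ⊓ F n ≤ V₁ then 0 else 1) =
      Module.finrank k ↥(V ⊓ F n) := fun n => by
    rw [heq]
    split_ifs with h
    · rw [inf_eq_right.2 h, add_zero]
    · exact finrank_inf_of_not_le h₁ inf_le_left hfin h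
  have hsum : (∑ n ∈ Finset.range d, (if V ⊓ F n ≤ V₁ then 0 else 1)) =
      L + ∑ n ∈ Finset.Ico L (min d (L + 1)), (if V ⊓ F n ≤ V₁ then 0 else 1) := by
    rw [← Finset.sum_range_add_sum_Ico _ hLd]
    congr 1
    · rw [Finset.sum_congr rfl (g := fun _ => 1) fun n hn => if_neg (hlow n (Finset.mem_range.1 hn))]
      simp
    · refine (Finset.sum_subset (Finset.Ico_subset_Ico_right (min_le_left _ _)) fun x hx hx' => ?_).symm
      rw [Finset.mem_Ico] at hx hx'
      exact if_pos (hhigh x (by omega))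
  refine ⟨∑ n ∈ Finset.Ico L (min d (L + 1)), (if V ⊓ F n ≤ V₁ then 0 else 1), ?_, ?_⟩
  · refine (Finset.sum_le_card_nsmul _ _ 1 fun x _ => by split_ifs <;> omega).trans ?_
    simp
  · rw [add_assoc, ← hsum, ← Finset.sum_add_distrib]
    exact Finset.sum_congr rfl fun n _ => hterm n

variable [CharZero k] {m : ℕ} {r : Fin m → k} {a : Fin m → ℕ} {b N d : ℕ}

variable (r a N) in
/-- The space of the statements, as the image of `T`. -/
noncomputable def space : Submodule k k[X] := (degreeLT k (N + 1)).map (T r a)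

instance : FiniteDimensional k (space r a N) := inferInstanceAs (FiniteDimensional k ↥((degreeLT k (N + 1)).map (T r a)))

omit [CharZero k] in
theorem X_sub_pow_mem (q : k) {e L : ℕ} (he : e < L) : (X - C q) ^ e ∈ degreeLT k L := by
  rw [mem_degreeLT, degree_pow, degree_X_sub_C, nsmul_one]
  exact_mod_cast he

omit [CharZero k] in
theorem T_pow_eval (q p : k) (e : ℕ) (he : 0 < e) :
    (T r a ((X - C q) ^ e)).eval p =
      (p - q) ^ (e - 1) * ((e : k) * (R r).eval p - (p - q) * (S r a).eval p) := by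
  obtain ⟨f, rfl⟩ : ∃ f, e = f + 1 := ⟨e - 1, by omega⟩
  rw [T_apply, derivative_X_sub_C_pow]
  simp [pow_succ]
  ring

theorem R_eval_ne {p : k} (hp : ∀ j, p ≠ r j) : (R r).eval p ≠ 0 := by
  simp only [R, eval_prod, eval_sub, eval_X, eval_C]
  exact Finset.prod_ne_zero_iff.2 fun j _ => sub_ne_zero.2 (hp j)

theorem Q_eval_ne {p : k} (hp : ∀ j, p ≠ r j) : (Q r a).eval p ≠ 0 := by
  simp only [Q, eval_prod, eval_pow, eval_sub, eval_X, eval_C]
  exact Finset.prod_ne_zero_iff.2 fun j _ => pow_ne_zero _ (sub_ne_zero.2 (hp j))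

/-- Not both of the top two powers at `q` map into `(X - p)`. -/
theorem not_both_at {q p : k} (hp : ∀ j, p ≠ r j) (hqp : q ≠ p) (hN : 2 ≤ N) :
    ¬ ((T r a ((X - C q) ^ (N - 1))).eval p = 0 ∧ (T r a ((X - C q) ^ N)).eval p = 0) := by
  rintro ⟨h1, h2⟩
  rw [T_pow_eval q p _ (by omega)] at h1 h2
  have hne : p - q ≠ 0 := sub_ne_zero.2 hqp.symm
  rw [mul_eq_zero, or_iff_right (pow_ne_zero _ hne)] at h1 h2
  rw [Nat.cast_sub (by omega : 1 ≤ N), Nat.cast_one] at h1
  exact R_eval_ne hp (by linear_combination h2 - h1)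

variable (r a) in
theorem mem_unmarked_iff {q : k} (hq : ∀ j, q ≠ r j) (hN : N = (∑ j, a j) + b) (n : ℕ) (h : k[X]) :
    h ∈ space r a N ⊓ (Ideal.span {(X - C q) ^ n}).restrictScalars k ↔
      ∃ u ∈ degreeLT k (N - n), T r a ((X - C q) ^ (n + 1) * u) = h := by
  constructor
  · rintro ⟨⟨P, hP, rfl⟩, hT⟩
    have hdvd : (X - C q) ^ n ∣ T r a P := Ideal.mem_span_singleton.1 hT
    set P₁ := P - (P.eval q / (Q r a).eval q) • Q r a with hP₁
    have hT₁ : T r a P₁ = T r a P := T_sub_smul_Q r a _ _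
    have hP₁mem : P₁ ∈ degreeLT k (N + 1) := sub_mem hP (Submodule.smul_mem _ _ (by
      rw [mem_degreeLT, degree_eq_natDegree (Q_ne_zero r a), Nat.cast_lt, natDegree_Q]; omega))
    suffices hdvd' : (X - C q) ^ (n + 1) ∣ P₁ by
      have : P₁ ∈ degreeLT k (N + 1) ⊓ (Ideal.span {(X - C q) ^ (n + 1)}).restrictScalars k :=
        ⟨hP₁mem, Ideal.mem_span_singleton.2 hdvd'⟩
      rw [degreeLT_inf_span] at this
      obtain ⟨u, hu, hu'⟩ := this
      refine ⟨u, by rwa [show N - n = N + 1 - (n + 1) by omega], ?_⟩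
      rw [← hT₁, ← hu', LinearMap.mulLeft_apply]
    rcases eq_or_ne P₁ 0 with h0 | h0
    · rw [h0]; exact dvd_zero _
    have heval : P₁.eval q = 0 := by simp [hP₁, Q_eval_ne hq]
    obtain ⟨u, hu, hnd⟩ := exists_eq_pow_rootMultiplicity_mul_and_not_dvd _ h0 q
    set e := P₁.rootMultiplicity q
    have he : 0 < e := (rootMultiplicity_pos h0).2 heval
    rw [hu]
    by_cases hne : n + 1 ≤ e
    · exact (pow_dvd_pow _ hne).mul_right _
    exfalso
    obtain ⟨f, hf⟩ : ∃ f, e = f + 1 := ⟨e - 1, by omega⟩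
    have hTP : T r a P₁ = (X - C q) ^ f * (C (e : k) * R r * u +
        (X - C q) * (R r * derivative u - S r a * u)) := by
      rw [hu, T_apply, derivative_mul, derivative_X_sub_C_pow, hf, Nat.add_sub_cancel, pow_succ]
      ring
    rw [← hT₁, hTP] at hdvd
    have h2 := (mul_dvd_mul_iff_left (pow_ne_zero f (X_sub_C_ne_zero q))).1
      ((pow_succ (X - C q) f) ▸ (pow_dvd_pow _ (show f + 1 ≤ n by omega)).trans hdvd)
    have h3 : (e : k) * (R r).eval q * u.eval q = 0 := by
      simpa [IsRoot] using dvd_iff_isRoot.1 h2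
    have h4 : u.eval q ≠ 0 := fun h5 => hnd (dvd_iff_isRoot.2 h5)
    simp [R_eval_ne hq, h4, he.ne'] at h3
  · rintro ⟨u, hu, rfl⟩
    have hmem : (X - C q) ^ (n + 1) * u ∈ degreeLT k (N + 1) ⊓
        (Ideal.span {(X - C q) ^ (n + 1)}).restrictScalars k := by
      rw [degreeLT_inf_span, show N + 1 - (n + 1) = N - n by omega]
      exact ⟨u, hu, rfl⟩
    refine ⟨⟨_, hmem.1, rfl⟩, Ideal.mem_span_singleton.2 ?_⟩
    rw [T_apply, derivative_mul, derivative_X_sub_C_pow, Nat.add_sub_cancel, pow_succ]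
    exact ⟨R r * (C ((n + 1 : ℕ) : k) * u + (X - C q) * derivative u) - S r a * ((X - C q) * u), by ring⟩

/-- The subspaces at the top two orders at an unmarked point. -/
theorem top_orders {q : k} (hq : ∀ j, q ≠ r j) (hN : N = (∑ j, a j) + b) (hN2 : 2 ≤ N) :
    (space r a N ⊓ (Ideal.span {(X - C q) ^ (N - 1)}).restrictScalars k ≤
      Submodule.span k {T r a ((X - C q) ^ N)}) ∧
    (space r a N ⊓ (Ideal.span {(X - C q) ^ (N - 2)}).restrictScalars k =
      Submodule.span k {T r a ((X - C q) ^ (N - 1)), T r a ((X - C q) ^ N)}) := by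
  constructor
  · intro h hh
    obtain ⟨u, hu, rfl⟩ := (mem_unmarked_iff r a hq hN _ h).1 hh
    rw [show N - (N - 1) = 1 by omega] at hu
    rw [eq_C_of_degree_le_zero (Order.le_of_lt_succ (mem_degreeLT.1 hu)), show N - 1 + 1 = N by omega, mul_comm,
      ← smul_eq_C_mul, map_smul]
    exact Submodule.smul_mem _ _ (Submodule.subset_span rfl)
  · refine le_antisymm (fun h hh => ?_) (Submodule.span_le.2 ?_)
    · obtain ⟨u, hu, rfl⟩ := (mem_unmarked_iff r a hq hN _ h).1 hh
      have hu1 : (taylor q u).natDegree ≤ 1 := by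
        rw [natDegree_taylor]
        rcases eq_or_ne u 0 with rfl | h0
        · simp
        rw [mem_degreeLT, degree_eq_natDegree h0, Nat.cast_lt] at hu
        omega
      have e1 : u = C ((taylor q u).coeff 0) + C ((taylor q u).coeff 1) * (X - C q) := by
        conv_lhs => rw [← sum_taylor_eq u q, sum_over_range' _ (by simp) 2 (by omega)]
        simp [Finset.sum_range_succ]
      rw [e1, mul_add, mul_left_comm, show N - 2 + 1 = N - 1 by omega, ← pow_succ,
        show N - 1 + 1 = N by omega, mul_comm _ (C _), ← smul_eq_C_mul, ← smul_eq_C_mul, map_add, map_smul,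
        map_smul]
      exact add_mem (Submodule.smul_mem _ _ (Submodule.subset_span (Set.mem_insert _ _)))
        (Submodule.smul_mem _ _ (Submodule.subset_span (Set.mem_insert_of_mem _ rfl)))
    · rintro h (rfl | rfl)
      · refine (mem_unmarked_iff r a hq hN _ _).2 ⟨1, ?_, by rw [show N - 2 + 1 = N - 1 by omega, mul_one]⟩
        rw [mem_degreeLT, degree_one]; exact_mod_cast (by omega : 0 < N - (N - 2))
      · refine (mem_unmarked_iff r a hq hN _ _).2 ⟨X - C q, ?_, by rw [← pow_succ, show N - 2 + 1 + 1 = N by omega]⟩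
        rw [mem_degreeLT, degree_X_sub_C]; exact_mod_cast (by omega : 1 < N - (N - 2))

/-- The three assertions at unmarked points, given that no hyperplane contains both top vectors. -/
theorem simple_ramification {V₁ : Submodule k k[X]} (hV₁ : V₁ ≤ space r a N) (hN : N = (∑ j, a j) + b)
    (hfin : Module.finrank k V₁ + 1 = N) (good : k → Prop)
    (hnot : ∀ q, good q → (∀ j, q ≠ r j) → 2 ≤ N →
      ¬ (T r a ((X - C q) ^ (N - 1)) ∈ V₁ ∧ T r a ((X - C q) ^ N) ∈ V₁))
    (huniq : ∀ q q', good q → good q' → (∀ j, q ≠ r j) → (∀ j, q' ≠ r j) → 2 ≤ N →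
      T r a ((X - C q) ^ N) ∈ V₁ → T r a ((X - C q') ^ N) ∈ V₁ → q = q') :
    (∀ q : k, good q → (∀ j, q ≠ r j) →
      (V₁ ⊓ (Ideal.span {(X - C q) ^ N}).restrictScalars k) = ⊥ ∧
      Module.finrank k ↥(V₁ ⊓ (Ideal.span {(X - C q) ^ (N - 2)}).restrictScalars k) ≤ 1) ∧
    (∀ q q' : k, good q → good q' → (∀ j, q ≠ r j) → (∀ j, q' ≠ r j) →
      (V₁ ⊓ (Ideal.span {(X - C q) ^ (N - 1)}).restrictScalars k) ≠ ⊥ →
      (V₁ ⊓ (Ideal.span {(X - C q') ^ (N - 1)}).restrictScalars k) ≠ ⊥ → q = q') := by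
  have hV : Module.finrank k (space r a N) = N := finrank_all hN
  have hbot : N ≤ 1 → V₁ = ⊥ := fun h => by
    have : FiniteDimensional k V₁ := Submodule.finiteDimensional_of_le hV₁
    exact Submodule.finrank_eq_zero.1 (by omega)
  refine ⟨fun q hg hq => ⟨?_, ?_⟩, fun q q' hg hg' hq hq' h h' => ?_⟩
  · exact eq_bot_iff.2 (le_trans (inf_le_inf_right _ hV₁) (unmarked hN q hq).le)
  · rcases Nat.lt_or_ge N 2 with h | h
    · rw [hbot (by omega), bot_inf_eq, finrank_bot]; omega
    have h2 := (top_orders hq hN h).2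
    have hlt : V₁ ⊓ (Ideal.span {(X - C q) ^ (N - 2)}).restrictScalars k <
        space r a N ⊓ (Ideal.span {(X - C q) ^ (N - 2)}).restrictScalars k := by
      refine lt_of_le_of_ne (inf_le_inf_right _ hV₁) fun he => hnot q hg hq h ?_
      have h3 : Submodule.span k {T r a ((X - C q) ^ (N - 1)), T r a ((X - C q) ^ N)} ≤ V₁ :=
        h2 ▸ he ▸ inf_le_left
      exact ⟨h3 (Submodule.subset_span (Set.mem_insert _ _)),
        h3 (Submodule.subset_span (Set.mem_insert_of_mem _ rfl))⟩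
    have : FiniteDimensional k ↥(space r a N ⊓ (Ideal.span {(X - C q) ^ (N - 2)}).restrictScalars k) :=
      Submodule.finiteDimensional_of_le inf_le_left
    have h4 := Submodule.finrank_lt_finrank_of_lt hlt
    rw [h2] at h4
    classical
    have h5 : Module.finrank k ↥(Submodule.span k
        (({T r a ((X - C q) ^ (N - 1)), T r a ((X - C q) ^ N)} : Finset k[X]) : Set k[X])) ≤ 2 :=
      (finrank_span_finset_le_card _).trans (Finset.card_insert_le _ _)
    rw [Finset.coe_insert, Finset.coe_singleton] at h5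
    omega
  · rcases Nat.lt_or_ge N 2 with hh | hh
    · rw [hbot (by omega), bot_inf_eq] at h; exact absurd rfl h
    have key : ∀ x : k, (∀ j, x ≠ r j) →
        V₁ ⊓ (Ideal.span {(X - C x) ^ (N - 1)}).restrictScalars k ≠ ⊥ → T r a ((X - C x) ^ N) ∈ V₁ := by
      intro x hx hne
      obtain ⟨v, hv, hv0⟩ := (Submodule.ne_bot_iff _).1 hne
      obtain ⟨c, rfl⟩ := Submodule.mem_span_singleton.1 ((top_orders hx hN hh).1 ⟨hV₁ hv.1, hv.2⟩)
      exact (Submodule.smul_mem_iff _ (fun hc : c = 0 => hv0 (by rw [hc, zero_smul]))).1 hv.1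
    exact huniq q q' hg hg' hq hq' hh (key q hq h) (key q' hq' h')

theorem low_mem {V₁ : Submodule k k[X]} (hr : Function.Injective r) (hN : N = (∑ j, a j) + b)
    (hU : (degreeLT k (b - 2)).map (LinearMap.mulLeft k (∏ j, (X - C (r j)) ^ (a j + 1))) ⊔
      (⨆ i, (degreeLT k (a i)).map
        (LinearMap.mulLeft k (∏ j ∈ Finset.univ.erase i, (X - C (r j)) ^ (a j + 1)))) ≤ V₁)
    {P : k[X]} (hP : P ∈ degreeLT k (N - 1)) : T r a P ∈ V₁ := by
  rw [map_T_eq hr] at hU
  exact hU ⟨P, degreeLT_mono (by omega) hP, rfl⟩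

omit [CharZero k] in
theorem degreeLT_succ_le (L : ℕ) (P : k[X]) (hP : P.Monic) (hd : P.natDegree = L) :
    degreeLT k (L + 1) ≤ degreeLT k L ⊔ Submodule.span k {P} := by
  intro x hx
  rw [Submodule.mem_sup]
  refine ⟨x - x.coeff L • P, ?_, x.coeff L • P, Submodule.smul_mem _ _ (Submodule.subset_span rfl), by abel⟩
  rw [mem_degreeLT, degree_lt_iff_coeff_zero]
  intro j hj
  rcases eq_or_lt_of_le hj with rfl | hlt
  · rw [coeff_sub, coeff_smul, ← hd, hP.coeff_natDegree, smul_eq_mul, mul_one, sub_self]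
  · rw [coeff_sub, coeff_smul, coeff_eq_zero_of_natDegree_lt (p := P) (by omega), smul_zero, sub_zero]
    rw [mem_degreeLT, degree_lt_iff_coeff_zero] at hx
    exact hx j hlt

theorem not_both_hyper {V₁ : Submodule k k[X]} (hN : N = (∑ j, a j) + b)
    (hfin : Module.finrank k V₁ + 1 = N) (hV₁ : V₁ ≤ space r a N)
    (hlow : ∀ {P : k[X]}, P ∈ degreeLT k (N - 1) → T r a P ∈ V₁) (hN2 : 2 ≤ N) {P₁ P₂ : k[X]}
    (h1 : P₁.Monic) (d1 : P₁.natDegree = N - 1) (h2 : P₂.Monic) (d2 : P₂.natDegree = N) :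
    ¬ (T r a P₁ ∈ V₁ ∧ T r a P₂ ∈ V₁) := by
  rintro ⟨m1, m2⟩
  have : FiniteDimensional k V₁ := Submodule.finiteDimensional_of_le hV₁
  have hle : space r a N ≤ V₁ := by
    rw [space, Submodule.map_le_iff_le_comap]
    have e : N - 1 + 1 = N := by omega
    refine (degreeLT_succ_le N P₂ h2 d2).trans (sup_le ?_ ((Submodule.span_singleton_le_iff_mem _ _).2 m2))
    have := degreeLT_succ_le (N - 1) P₁ h1 d1
    rw [e] at this
    exact this.trans (sup_le (fun P hP => hlow hP) ((Submodule.span_singleton_le_iff_mem _ _).2 m1))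
  have h3 : Module.finrank k (space r a N) ≤ Module.finrank k V₁ := Submodule.finrank_mono hle
  have h4 : Module.finrank k (space r a N) = N := finrank_all hN
  omega

omit [CharZero k] in
theorem natDegree_X_sub_pow (q : k) (e : ℕ) : ((X - C q) ^ e).natDegree = e := by
  rw [natDegree_pow, natDegree_X_sub_C, mul_one]

theorem hyperplane_ramification {V₁ : Submodule k k[X]} (hV₁ : V₁ ≤ space r a N) (hN : N = (∑ j, a j) + b)
    (hfin : Module.finrank k V₁ + 1 = N)
    (hlow : ∀ {P : k[X]}, P ∈ degreeLT k (N - 1) → T r a P ∈ V₁) :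
    (∀ q : k, (∀ j, q ≠ r j) →
      (V₁ ⊓ (Ideal.span {(X - C q) ^ N}).restrictScalars k) = ⊥ ∧
      Module.finrank k ↥(V₁ ⊓ (Ideal.span {(X - C q) ^ (N - 2)}).restrictScalars k) ≤ 1) ∧
    (∀ q q' : k, (∀ j, q ≠ r j) → (∀ j, q' ≠ r j) →
      (V₁ ⊓ (Ideal.span {(X - C q) ^ (N - 1)}).restrictScalars k) ≠ ⊥ →
      (V₁ ⊓ (Ideal.span {(X - C q') ^ (N - 1)}).restrictScalars k) ≠ ⊥ → q = q') := by
  refine And.elim (fun h1 h2 => ⟨fun q hq => h1 q trivial hq, fun q q' hq hq' => h2 q q' trivial trivial hq hq'⟩)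
    (simple_ramification hV₁ hN hfin (fun _ => True)
    (fun q _ _ hN2 => not_both_hyper hN hfin hV₁ hlow hN2 ((monic_X_sub_C q).pow _) (natDegree_X_sub_pow q _)
      ((monic_X_sub_C q).pow _) (natDegree_X_sub_pow q _)) ?_)
  intro q q' _ _ _ _ hN2 hm hm'
  by_contra hne
  -- a combination of the two powers of degree exactly `N - 1`
  set c : k := (N : k) * (q' - q)
  have hc : c ≠ 0 := mul_ne_zero (Nat.cast_ne_zero.2 (by omega)) (sub_ne_zero.2 (Ne.symm hne))
  set D := c⁻¹ • ((X - C q) ^ N - (X - C q') ^ N)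
  have hdle : D.natDegree ≤ N - 1 := by
    refine (natDegree_smul_le _ _).trans (natDegree_le_iff_coeff_eq_zero.2 fun j hj => ?_)
    rw [coeff_sub]
    rcases Nat.lt_or_ge N j with h' | h'
    · rw [coeff_eq_zero_of_natDegree_lt (by rw [natDegree_X_sub_pow]; exact h'),
        coeff_eq_zero_of_natDegree_lt (by rw [natDegree_X_sub_pow]; exact h'), sub_zero]
    · have e : j = N := by omega
      subst e
      have hq1 := ((monic_X_sub_C q).pow j).coeff_natDegree
      have hq2 := ((monic_X_sub_C q').pow j).coeff_natDegree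
      rw [natDegree_X_sub_pow] at hq1 hq2
      rw [hq1, hq2, sub_self]
  have hcoeff : D.coeff (N - 1) = 1 := by
    rw [coeff_smul, coeff_sub, sub_eq_add_neg X (C q), sub_eq_add_neg X (C q'), ← C_neg, ← C_neg,
      coeff_X_add_C_pow, coeff_X_add_C_pow, show N - (N - 1) = 1 by omega, pow_one, pow_one,
      show N.choose (N - 1) = N by rw [Nat.choose_symm (by omega : 1 ≤ N), Nat.choose_one_right], smul_eq_mul]
    rw [inv_mul_eq_one₀ hc]
    ring
  refine not_both_hyper hN hfin hV₁ hlow hN2 (monic_of_natDegree_le_of_coeff_eq_one (N - 1) hdle hcoeff)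
    (natDegree_eq_of_le_of_coeff_ne_zero hdle (by rw [hcoeff]; exact one_ne_zero))
    ((monic_X_sub_C q).pow _) (natDegree_X_sub_pow q _) ⟨?_, hm⟩
  rw [map_smul, map_sub]
  exact Submodule.smul_mem _ _ (sub_mem hm hm')

variable (r a N) in
/-- The members vanishing at `p`. -/
noncomputable def dropPoint (p : k) : Submodule k k[X] :=
  space r a N ⊓ (Ideal.span {X - C p}).restrictScalars k

omit [CharZero k] in
theorem mem_dropPoint {p : k} {P : k[X]} (hP : P ∈ degreeLT k (N + 1)) :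
    T r a P ∈ dropPoint r a N p ↔ (T r a P).eval p = 0 := by
  constructor
  · exact fun h => dvd_iff_isRoot.1 (Ideal.mem_span_singleton.1 h.2)
  · exact fun h => ⟨⟨P, hP, rfl⟩, Ideal.mem_span_singleton.2 (dvd_iff_isRoot.2 h)⟩

theorem finrank_dropPoint {p : k} (hp : ∀ j, p ≠ r j) (hN : N = (∑ j, a j) + b) (hN1 : 1 ≤ N) :
    Module.finrank k (dropPoint r a N p) + 1 = N := by
  have hV : Module.finrank k (space r a N) = N := finrank_all hN
  have hlt : dropPoint r a N p < space r a N := by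
    refine lt_of_le_of_ne inf_le_left fun he => ?_
    have hX : T r a (X - C p) ∈ space r a N :=
      ⟨X - C p, by simpa using X_sub_pow_mem p (by omega : 1 < N + 1), rfl⟩
    rw [← he] at hX
    have h := hX
    have h1 := dvd_iff_isRoot.1 (Ideal.mem_span_singleton.1 h.2)
    simp [T_apply, IsRoot, R_eval_ne hp] at h1
  have h1 := Submodule.finrank_lt_finrank_of_lt hlt
  have : FiniteDimensional k (dropPoint r a N p) := Submodule.finiteDimensional_of_le inf_le_left
  -- it is the kernel of evaluation at `p`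
  let ev : space r a N →ₗ[k] k := (leval p).comp (space r a N).subtype
  have h2 := LinearMap.finrank_range_add_finrank_ker ev
  have h3 : Module.finrank k (LinearMap.range ev) ≤ 1 :=
    (Submodule.finrank_le _).trans_eq (Module.finrank_self k)
  have h4 : (LinearMap.ker ev).map (space r a N).subtype = dropPoint r a N p := by
    ext x
    simp only [Submodule.mem_map, LinearMap.mem_ker, ev, LinearMap.comp_apply, Submodule.subtype_apply,
      leval_apply]
    constructor
    · rintro ⟨y, hy, rfl⟩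
      exact ⟨y.2, Ideal.mem_span_singleton.2 (dvd_iff_isRoot.2 hy)⟩
    · intro hx
      exact ⟨⟨x, hx.1⟩, dvd_iff_isRoot.1 (Ideal.mem_span_singleton.1 hx.2), rfl⟩
  have h5 : Module.finrank k (dropPoint r a N p) = Module.finrank k (LinearMap.ker ev) := by
    rw [← h4, Submodule.finrank_map_subtype_eq]
  omega

theorem dropPoint_ramification {p : k} (hp : ∀ j, p ≠ r j) (hN : N = (∑ j, a j) + b) (hN1 : 1 ≤ N) :
    (∀ q : k, (∀ j, q ≠ r j) → q ≠ p →
      (dropPoint r a N p ⊓ (Ideal.span {(X - C q) ^ N}).restrictScalars k) = ⊥ ∧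
      Module.finrank k ↥(dropPoint r a N p ⊓ (Ideal.span {(X - C q) ^ (N - 2)}).restrictScalars k) ≤ 1) ∧
    (∀ q q' : k, (∀ j, q ≠ r j) → q ≠ p → (∀ j, q' ≠ r j) → q' ≠ p →
      (dropPoint r a N p ⊓ (Ideal.span {(X - C q) ^ (N - 1)}).restrictScalars k) ≠ ⊥ →
      (dropPoint r a N p ⊓ (Ideal.span {(X - C q') ^ (N - 1)}).restrictScalars k) ≠ ⊥ → q = q') := by
  refine And.elim (fun h1 h2 => ⟨fun q hq hqp => h1 q hqp hq, fun q q' hq hqp hq' hqp' => h2 q q' hqp hqp' hq hq'⟩)
    (simple_ramification (V₁ := dropPoint r a N p) inf_le_left hN (finrank_dropPoint hp hN hN1)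
    (fun q => q ≠ p) (fun q hqp _ hN2 hh => not_both_at hp hqp hN2
      ⟨(mem_dropPoint (X_sub_pow_mem q (by omega))).1 hh.1, (mem_dropPoint (X_sub_pow_mem q (by omega))).1 hh.2⟩) ?_)
  intro q q' hqp hqp' _ _ hN2 hm hm'
  rw [mem_dropPoint (X_sub_pow_mem q (by omega)), T_pow_eval q p N (by omega), mul_eq_zero,
    or_iff_right (pow_ne_zero _ (sub_ne_zero.2 hqp.symm))] at hm
  rw [mem_dropPoint (X_sub_pow_mem q' (by omega)), T_pow_eval q' p N (by omega), mul_eq_zero,
    or_iff_right (pow_ne_zero _ (sub_ne_zero.2 hqp'.symm))] at hm'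
  have hS : (q - q') * (S r a).eval p = 0 := by linear_combination hm - hm'
  rcases mul_eq_zero.1 hS with h | h
  · exact sub_eq_zero.1 h
  · rw [h, mul_zero, sub_zero] at hm
    exact absurd hm (mul_ne_zero (Nat.cast_ne_zero.2 (by omega)) (R_eval_ne hp))

theorem weight_marked {V₁ : Submodule k k[X]} (hV₁ : V₁ ≤ space r a N) (hr : Function.Injective r)
    (hN : N = (∑ j, a j) + b) (hfin : Module.finrank k V₁ + 1 = N) (i : Fin m) (hd : d + 1 = N + m)
    (hnot : 2 ≤ N → ¬ (T r a ((X - C (r i)) ^ (N - 1)) ∈ V₁ ∧ T r a ((X - C (r i)) ^ N) ∈ V₁)) :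
    ∃ ε : ℕ, ε ≤ 1 ∧
      (∑ n ∈ Finset.range d, Module.finrank k ↥(V₁ ⊓ (Ideal.span {(X - C (r i)) ^ (n + 1)}).restrictScalars k)) + 1 =
        (N - 1).choose 2 + (N - a i) + ε := by
  have hm : 0 < m := Fin.pos i
  have hV : Module.finrank k (space r a N) = N := finrank_all hN
  have hai : a i ≤ N := hN ▸ (Finset.single_le_sum (fun j _ => Nat.zero_le (a j))
    (Finset.mem_univ i)).trans (Nat.le_add_right _ _)
  have hmem : ∀ n e, n ≤ e → e ≤ N → T r a ((X - C (r i)) ^ e) ∈
      space r a N ⊓ (Ideal.span {(X - C (r i)) ^ n}).restrictScalars k := fun n e hne heN =>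
    ⟨⟨_, X_sub_pow_mem _ (by omega), rfl⟩, Ideal.mem_span_singleton.2
      ((dvd_T_iff i hr n _).2 ⟨0, by simpa using pow_dvd_pow _ hne⟩)⟩
  refine Exists.elim (sum_hyperplane (V := space r a N) hV₁ (by omega)
    (fun n => (Ideal.span {(X - C (r i)) ^ (n + 1)}).restrictScalars k) (N - 1) d (by omega) ?_ ?_) fun ε ⟨hε, hsum⟩ => ?_
  · intro n hn hle
    exact hnot (by omega) ⟨hle (hmem _ _ (by omega) (by omega)), hle (hmem _ _ (by omega) le_rfl)⟩
  · intro n hn
    have : FiniteDimensional k ↥(space r a N ⊓ (Ideal.span {(X - C (r i)) ^ (n + 1)}).restrictScalars k) :=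
      Submodule.finiteDimensional_of_le inf_le_left
    have h0 : Module.finrank k ↥(space r a N ⊓ (Ideal.span {(X - C (r i)) ^ (n + 1)}).restrictScalars k) = 0 := by
      refine (finrank_vanishing hr hN i (n + 1)).trans ?_
      split_ifs <;> omega
    rw [Submodule.finrank_eq_zero.1 h0]
    exact bot_le
  · have hval : ∑ n ∈ Finset.range d, Module.finrank k
        ↥(space r a N ⊓ (Ideal.span {(X - C (r i)) ^ (n + 1)}).restrictScalars k) = N.choose 2 + (N - a i) := by
      rw [← sum_orders (a i) N d hai (Or.inl (by omega))]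
      exact Finset.sum_congr rfl fun n _ => finrank_vanishing hr hN i (n + 1)
    have hch : N.choose 2 = (N - 1).choose 2 + (N - 1) := by
      obtain ⟨M, rfl⟩ : ∃ M, N = M + 1 := ⟨N - 1, by omega⟩
      rw [Nat.choose_succ_succ', Nat.choose_one_right, Nat.add_sub_cancel, add_comm]
    exact ⟨1 - ε, by omega, by omega⟩

theorem weight_infty {V₁ : Submodule k k[X]} (hV₁ : V₁ ≤ space r a N)
    (hN : N = (∑ j, a j) + b) (hfin : Module.finrank k V₁ + 1 = N) (hd : d + 1 = (∑ j, (a j + 1)) + b)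
    (hb : m = 0 → b = N) (L : ℕ) (hL : L ≤ N - 1)
    (hlow : ∀ n, n < L → ¬ space r a N ⊓ degreeLT k (d - n) ≤ V₁)
    (hhigh : ∀ n, L < n → space r a N ⊓ degreeLT k (d - n) ≤ V₁) :
    ∃ ε : ℕ, ε ≤ 1 ∧ (∑ n ∈ Finset.range d, Module.finrank k ↥(V₁ ⊓ degreeLT k (d - n))) + L + ε =
      N.choose 2 + (N - b) := by
  have hV : Module.finrank k (space r a N) = N := finrank_all hN
  have hd' : d + 1 = N + m := by
    rw [hd, Finset.sum_add_distrib, hN]; simp; omega
  obtain ⟨ε, hε, hsum⟩ := sum_hyperplane (V := space r a N) hV₁ (by omega)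
    (fun n => degreeLT k (d - n)) L d (by omega) hlow hhigh
  refine ⟨ε, hε, hsum.trans ?_⟩
  rw [← sum_orders b N d (by omega) (by
    rcases Nat.eq_zero_or_pos m with h | h
    · exact Or.inr ⟨by omega, hb h⟩
    · exact Or.inl (by omega))]
  refine Finset.sum_congr rfl fun n _ => ?_
  have := finrank_infty (r := r) (a := a) (fun h => by subst h; simp) hN hd (n + 1)
  rwa [show d + 1 - (n + 1) = d - n by omega] at this

theorem mem_infty_iff (hN : N = (∑ j, a j) + b) (hd : d + 1 = (∑ j, (a j + 1)) + b) (n : ℕ) (h : k[X]) :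
    h ∈ space r a N ⊓ degreeLT k (d - n) ↔ ∃ P ∈ degreeLT k (N - n), T r a P = h := by
  have hd' : d + 1 = (∑ j, a j) + m + b := by
    rw [hd, Finset.sum_add_distrib]; simp
  have hLM : ∀ p, p ≠ (∑ j, a j) → 0 < p + m → (p + m - 1 < d - n ↔ p < N - n) := by
    intro p hp hpos; omega
  constructor
  · rintro ⟨⟨P, -, rfl⟩, hh⟩
    obtain ⟨c, hc⟩ := (degree_T_iff r a _ _ hLM (fun h => by subst h; simp) P).1 hh
    exact ⟨_, hc, T_sub_smul_Q r a c P⟩
  · rintro ⟨P, hP, rfl⟩
    exact ⟨⟨P, degreeLT_mono (by omega) hP, rfl⟩,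
      (degree_T_iff r a _ _ hLM (fun h => by subst h; simp) P).2 ⟨0, by simpa using hP⟩⟩

end Groth.Agent.W4c4Lib.Polar

namespace Groth.Agent.W4c4Lib.Polar

open Polynomial

variable {k : Type*} [Field k] [CharZero k] {m : ℕ} {r : Fin m → k} {a : Fin m → ℕ} {b N d : ℕ}

theorem choose_two_pred (hN : 1 ≤ N) : N.choose 2 = (N - 1).choose 2 + (N - 1) := by
  obtain ⟨M, rfl⟩ : ∃ M, N = M + 1 := ⟨N - 1, by omega⟩
  rw [Nat.choose_succ_succ', Nat.choose_one_right, Nat.add_sub_cancel, add_comm]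

theorem weights_containing (hb : 1 ≤ b) {V₁ : Submodule k k[X]} (hV₁ : V₁ ≤ space r a N) (hr : Function.Injective r)
    (hN : N = (∑ j, a j) + b) (hd : d + 1 = (∑ j, (a j + 1)) + b) (hfin : Module.finrank k V₁ + 1 = N)
    (hlow : ∀ {P : k[X]}, P ∈ degreeLT k (N - 1) → T r a P ∈ V₁) :
    (∀ i : Fin m, ∃ ε : ℕ, ε ≤ 1 ∧
      (∑ n ∈ Finset.range d, Module.finrank k ↥(V₁ ⊓ (Ideal.span {(X - C (r i)) ^ (n + 1)}).restrictScalars k)) + 1 =
        (N - 1).choose 2 + (N - a i) + ε) ∧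
    (∃ ε : ℕ, ε ≤ 1 ∧
      (∑ n ∈ Finset.range d, Module.finrank k ↥(V₁ ⊓ degreeLT k (d - n))) =
        (N - 1).choose 2 + (N - b) + (N - 2) + ε) := by
  have hd' : d + 1 = N + m := by rw [hd, Finset.sum_add_distrib, hN]; simp; omega
  have hm0 : m = 0 → b = N := fun h => by subst h; simp [hN]
  refine ⟨fun i => weight_marked hV₁ hr hN hfin i hd' fun hN2 => not_both_hyper hN hfin hV₁ hlow hN2
    ((monic_X_sub_C _).pow _) (natDegree_X_sub_pow _ _) ((monic_X_sub_C _).pow _) (natDegree_X_sub_pow _ _), ?_⟩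
  obtain ⟨ε, hε, hsum⟩ := weight_infty hV₁ hN hfin hd hm0 0 (Nat.zero_le _) (fun n hn => absurd hn (Nat.not_lt_zero n))
    (fun n hn h hh => by
      obtain ⟨P, hP, rfl⟩ := (mem_infty_iff hN hd n h).1 hh
      exact hlow (degreeLT_mono (by omega) hP))
  have hch := choose_two_pred (N := N) (by omega)
  rcases Nat.lt_or_ge N 2 with h | h
  · have h0 : (N - 1).choose 2 = 0 := Nat.choose_eq_zero_of_lt (by omega)
    exact ⟨0, by omega, by omega⟩
  · exact ⟨1 - ε, by omega, by omega⟩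

theorem weights_dropPoint {p : k} (hp : ∀ j, p ≠ r j) (hr : Function.Injective r)
    (hN : N = (∑ j, a j) + b) (hd : d + 1 = (∑ j, (a j + 1)) + b) (hN1 : 1 ≤ N) :
    (∀ i : Fin m, ∃ ε : ℕ, ε ≤ 1 ∧
      (∑ n ∈ Finset.range d, Module.finrank k
          ↥(dropPoint r a N p ⊓ (Ideal.span {(X - C (r i)) ^ (n + 1)}).restrictScalars k)) + 1 =
        (N - 1).choose 2 + (N - a i) + ε) ∧
    (∃ ε : ℕ, ε ≤ 1 ∧
      (∑ n ∈ Finset.range d, Module.finrank k ↥(dropPoint r a N p ⊓ degreeLT k (d - n))) + 1 =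
        (N - 1).choose 2 + (N - b) + ε) := by
  have hd' : d + 1 = N + m := by rw [hd, Finset.sum_add_distrib, hN]; simp; omega
  have hm0 : m = 0 → b = N := fun h => by subst h; simp [hN]
  have hfin := finrank_dropPoint hp hN hN1
  refine ⟨fun i => weight_marked (V₁ := dropPoint r a N p) inf_le_left hr hN hfin i hd' fun hN2 hh =>
    not_both_at hp (fun h => hp i h.symm) hN2
      ⟨(mem_dropPoint (X_sub_pow_mem _ (by omega))).1 hh.1, (mem_dropPoint (X_sub_pow_mem _ (by omega))).1 hh.2⟩, ?_⟩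
  obtain ⟨ε, hε, hsum⟩ := weight_infty (V₁ := dropPoint r a N p) inf_le_left hN hfin hd hm0 (N - 1) le_rfl
    (fun n hn hle => by
      have h0 := hle ((mem_infty_iff hN hd n _).2 ⟨1, by
        rw [mem_degreeLT, degree_one]; exact_mod_cast (by omega : 0 < N - n), rfl⟩)
      have h1 := hle ((mem_infty_iff hN hd n _).2 ⟨X, by
        rw [mem_degreeLT, degree_X]; exact_mod_cast (by omega : 1 < N - n), rfl⟩)
      rw [mem_dropPoint (by rw [mem_degreeLT, degree_one]; exact_mod_cast (by omega : 0 < N + 1))] at h0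
      rw [mem_dropPoint (by rw [mem_degreeLT, degree_X]; exact_mod_cast (by omega : 1 < N + 1))] at h1
      simp [T_apply] at h0 h1
      simp [h0, R_eval_ne hp] at h1)
    (fun n hn h hh => by
      obtain ⟨P, hP, rfl⟩ := (mem_infty_iff hN hd n h).1 hh
      rw [show N - n = 0 by omega, mem_degreeLT, Nat.cast_zero, Nat.WithBot.lt_zero_iff, degree_eq_bot] at hP
      rw [hP, map_zero]
      exact zero_mem _)
  have hch := choose_two_pred (N := N) hN1
  exact ⟨1 - ε, by omega, by omega⟩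

end Groth.Agent.W4c4Lib.Polar
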