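import Mathlib

/-!
# The sum of the spaces of polar parts without residue on the projective line

`T P = P' * R - P * S` is `D` times the derivative of `P / Q`.
-/

open Polynomial

namespace Groth.Agent.W4c4Lib.Polar

variable {k : Type*} [Field k] {m : ℕ} (r : Fin m → k) (a : Fin m → ℕ)

noncomputable def Q : k[X] := ∏ j, (X - C (r j)) ^ a j

noncomputable def R : k[X] := ∏ j, (X - C (r j))

noncomputable def S : k[X] := ∑ j, C (a j : k) * ∏ i ∈ Finset.univ.erase j, (X - C (r i))

noncomputable def T : k[X] →ₗ[k] k[X] :=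
  (LinearMap.mulLeft k (R r)).comp derivative - LinearMap.mulLeft k (S r a)

theorem T_apply (P : k[X]) : T r a P = R r * derivative P - S r a * P := by
  simp [T]

theorem deriv_prod_mul (s : Finset (Fin m)) :
    derivative (∏ j ∈ s, (X - C (r j)) ^ a j) * ∏ j ∈ s, (X - C (r j)) =
      (∏ j ∈ s, (X - C (r j)) ^ a j) *
        ∑ j ∈ s, C (a j : k) * ∏ i ∈ s.erase j, (X - C (r i)) := by
  classical
  rw [derivative_prod_finset, Finset.sum_mul, Finset.mul_sum]
  refine Finset.sum_congr rfl fun j hj => ?_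
  rw [derivative_X_sub_C_pow, ← Finset.mul_prod_erase s (fun i => X - C (r i)) hj,
    ← Finset.mul_prod_erase s (fun i => (X - C (r i)) ^ a i) hj]
  rcases Nat.eq_zero_or_pos (a j) with h | h
  · simp [h]
  · obtain ⟨n, hn⟩ : ∃ n, a j = n + 1 := ⟨a j - 1, by omega⟩
    rw [hn, Nat.add_sub_cancel, pow_succ]
    ring

theorem T_Q_mul (u : k[X]) : T r a (Q r a * u) = Q r a * R r * derivative u := by
  have h : derivative (Q r a) * R r = Q r a * S r a := deriv_prod_mul r a Finset.univ
  rw [T_apply, derivative_mul]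
  linear_combination u * h

theorem T_Q : T r a (Q r a) = 0 := by
  simpa using T_Q_mul r a 1

theorem T_sub_smul_Q (c : k) (P : k[X]) : T r a (P - c • Q r a) = T r a P := by
  rw [map_sub, map_smul, T_Q, smul_zero, sub_zero]

variable (i : Fin m)

noncomputable def Qi : k[X] := ∏ j ∈ Finset.univ.erase i, (X - C (r j)) ^ a j

noncomputable def Ri : k[X] := ∏ j ∈ Finset.univ.erase i, (X - C (r j))

theorem Q_eq : Q r a = (X - C (r i)) ^ a i * Qi r a i :=
  (Finset.mul_prod_erase Finset.univ (fun j => (X - C (r j)) ^ a j) (Finset.mem_univ i)).symm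

theorem R_eq : R r = (X - C (r i)) * Ri r i :=
  (Finset.mul_prod_erase Finset.univ (fun j => X - C (r j)) (Finset.mem_univ i)).symm

noncomputable def Si : k[X] :=
  ∑ j ∈ Finset.univ.erase i, C (a j : k) * ∏ l ∈ (Finset.univ.erase i).erase j, (X - C (r l))

theorem S_eq : S r a = C (a i : k) * Ri r i + (X - C (r i)) * Si r a i := by
  classical
  rw [S, ← Finset.add_sum_erase _ _ (Finset.mem_univ i), Si, Finset.mul_sum]
  refine congrArg₂ _ rfl (Finset.sum_congr rfl fun j hj => ?_)
  have hij : i ∈ Finset.univ.erase j :=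
    Finset.mem_erase.2 ⟨(Finset.ne_of_mem_erase hj).symm, Finset.mem_univ _⟩
  rw [← Finset.mul_prod_erase _ _ hij, Finset.erase_right_comm]
  ring

theorem T_Qi_mul (u : k[X]) :
    T r a (Qi r a i * u) =
      Qi r a i * Ri r i * ((X - C (r i)) * derivative u - C (a i : k) * u) := by
  have h : derivative (Qi r a i) * Ri r i = Qi r a i * Si r a i := deriv_prod_mul r a _
  rw [T_apply, R_eq r i, S_eq r a i, derivative_mul]
  linear_combination (X - C (r i)) * u * h

theorem T_pow_mul (e : ℕ) (u : k[X]) :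
    T r a ((X - C (r i)) ^ e * u) = (X - C (r i)) ^ e *
      (C ((e : k) - (a i : k)) * Ri r i * u +
        (X - C (r i)) * (Ri r i * derivative u - Si r a i * u)) := by
  rw [T_apply, R_eq r i, S_eq r a i, derivative_mul, derivative_X_sub_C_pow, C_sub]
  rcases e with _ | e
  · simp; ring
  · rw [Nat.add_sub_cancel, pow_succ]; ring

variable {r a}

theorem Ri_eval_ne (hr : Function.Injective r) : (Ri r i).eval (r i) ≠ 0 := by
  simp only [Ri, eval_prod, eval_sub, eval_X, eval_C]
  exact Finset.prod_ne_zero_iff.2 fun j hj =>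
    sub_ne_zero.2 fun h => Finset.ne_of_mem_erase hj (hr h).symm

theorem Qi_eval_ne (hr : Function.Injective r) : (Qi r a i).eval (r i) ≠ 0 := by
  simp only [Qi, eval_prod, eval_pow, eval_sub, eval_X, eval_C]
  exact Finset.prod_ne_zero_iff.2 fun j hj =>
    pow_ne_zero _ (sub_ne_zero.2 fun h => Finset.ne_of_mem_erase hj (hr h).symm)

theorem dvd_T_iff [CharZero k] (hr : Function.Injective r) (n : ℕ) (P : k[X]) :
    (X - C (r i)) ^ n ∣ T r a P ↔ ∃ c : k, (X - C (r i)) ^ n ∣ P - c • Q r a := by
  constructor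
  · intro h
    obtain ⟨c, hc⟩ : ∃ c : k, P - c • Q r a = 0 ∨
        (P - c • Q r a).rootMultiplicity (r i) ≠ a i := by
      by_cases hP : P = 0
      · exact ⟨0, Or.inl (by simp [hP])⟩
      obtain ⟨u, hu, -⟩ := exists_eq_pow_rootMultiplicity_mul_and_not_dvd P hP (r i)
      by_cases he : P.rootMultiplicity (r i) = a i
      · refine ⟨u.eval (r i) / (Qi r a i).eval (r i), ?_⟩
        set c := u.eval (r i) / (Qi r a i).eval (r i)
        by_cases hz : P - c • Q r a = 0
        · exact Or.inl hz
        refine Or.inr (fun hh => ?_)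
        have h1 : (X - C (r i)) ^ (a i + 1) ∣ P - c • Q r a := by
          have h2 : P - c • Q r a = (X - C (r i)) ^ a i * (u - c • Qi r a i) := by
            rw [mul_sub, mul_smul_comm, ← Q_eq, ← he, ← hu]
          rw [h2, pow_succ]
          refine mul_dvd_mul_left _ (dvd_iff_isRoot.2 ?_)
          simp [IsRoot, c, Qi_eval_ne i hr]
        have := (le_rootMultiplicity_iff hz).2 h1
        omega
      · exact ⟨0, Or.inr (by simpa using he)⟩
    refine ⟨c, ?_⟩
    rw [← T_sub_smul_Q r a c] at h
    rcases hc with hc | hc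
    · simp [hc]
    by_cases hz : P - c • Q r a = 0
    · simp [hz]
    obtain ⟨u, hu, hnd⟩ := exists_eq_pow_rootMultiplicity_mul_and_not_dvd _ hz (r i)
    set e := (P - c • Q r a).rootMultiplicity (r i)
    rw [hu] at h ⊢
    by_cases hne : n ≤ e
    · exact (pow_dvd_pow _ hne).mul_right _
    exfalso
    rw [T_pow_mul] at h
    have h1 := (mul_dvd_mul_iff_left (pow_ne_zero e (X_sub_C_ne_zero (r i)))).1
      ((pow_succ (X - C (r i)) e) ▸ (pow_dvd_pow _ (by omega : e + 1 ≤ n)).trans h)
    have h2 : ((e : k) - (a i : k)) * (Ri r i).eval (r i) * u.eval (r i) = 0 := by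
      simpa [IsRoot] using dvd_iff_isRoot.1 h1
    have h3 : u.eval (r i) ≠ 0 := fun hu0 => hnd (dvd_iff_isRoot.2 hu0)
    simp [sub_eq_zero, hc, Ri_eval_ne i hr, h3] at h2
  · rintro ⟨c, u, hu⟩
    rw [← T_sub_smul_Q r a c, hu, T_pow_mul]
    exact dvd_mul_right _ _

variable (r a)

theorem natDegree_Q : (Q r a).natDegree = ∑ j, a j := by
  rw [Q, natDegree_prod _ _ fun j _ => pow_ne_zero _ (X_sub_C_ne_zero _)]
  simp

theorem Q_monic : (Q r a).Monic := monic_prod_of_monic _ _ fun j _ => (monic_X_sub_C _).pow _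

theorem Q_ne_zero : Q r a ≠ 0 := (Q_monic r a).ne_zero

theorem natDegree_R : (R r).natDegree = m := by
  rw [R, natDegree_prod _ _ fun j _ => X_sub_C_ne_zero _]
  simp

theorem R_monic : (R r).Monic := monic_prod_of_monic _ _ fun j _ => monic_X_sub_C _

theorem natDegree_S_le : (S r a).natDegree ≤ m - 1 := by
  classical
  refine natDegree_sum_le_of_forall_le _ _ fun j _ => (natDegree_C_mul_le _ _).trans ?_
  rw [natDegree_prod _ _ fun j _ => X_sub_C_ne_zero _]
  simp

theorem coeff_S : (S r a).coeff (m - 1) = ((∑ j, a j : ℕ) : k) := by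
  classical
  rw [S, finset_sum_coeff, Nat.cast_sum]
  refine Finset.sum_congr rfl fun j _ => ?_
  rw [coeff_C_mul]
  have h1 : (∏ l ∈ Finset.univ.erase j, (X - C (r l))).Monic :=
    monic_prod_of_monic _ _ fun l _ => monic_X_sub_C _
  have h2 : (∏ l ∈ Finset.univ.erase j, (X - C (r l))).natDegree = m - 1 := by
    rw [natDegree_prod _ _ fun l _ => X_sub_C_ne_zero _]; simp
  rw [← h2, h1.coeff_natDegree, mul_one]

theorem natDegree_T_le (P : k[X]) : (T r a P).natDegree ≤ P.natDegree + m - 1 := by
  rw [T_apply]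
  refine (natDegree_sub_le _ _).trans (max_le ?_ ?_)
  · rcases Nat.eq_zero_or_pos P.natDegree with h | h
    · simp [derivative_of_natDegree_zero h]
    refine natDegree_mul_le.trans ?_
    have := natDegree_derivative_le P
    rw [natDegree_R]
    omega
  · rcases Nat.eq_zero_or_pos m with h | h
    · subst h; simp [S]
    refine natDegree_mul_le.trans ?_
    have := natDegree_S_le r a
    omega

theorem coeff_T {P : k[X]} (h : 0 < P.natDegree + m) :
    (T r a P).coeff (P.natDegree + m - 1) =
      ((P.natDegree : k) - ((∑ j, a j : ℕ) : k)) * P.leadingCoeff := by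
  have hR : (R r * derivative P).coeff (P.natDegree + m - 1) =
      (P.natDegree : k) * P.leadingCoeff := by
    rcases Nat.eq_zero_or_pos P.natDegree with h' | h'
    · simp [derivative_of_natDegree_zero h', h']
    · rw [show P.natDegree + m - 1 = m + (P.natDegree - 1) by omega,
        coeff_mul_add_eq_of_natDegree_le (natDegree_R r).le (natDegree_derivative_le P)]
      have h1 := (R_monic r).coeff_natDegree
      rw [natDegree_R] at h1
      rw [h1, one_mul, coeff_derivative, leadingCoeff]
      rw [show P.natDegree - 1 + 1 = P.natDegree by omega, mul_comm]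
      rw [← Nat.cast_add_one, show P.natDegree - 1 + 1 = P.natDegree by omega]
  have hS : (S r a * P).coeff (P.natDegree + m - 1) =
      ((∑ j, a j : ℕ) : k) * P.leadingCoeff := by
    rcases Nat.eq_zero_or_pos m with h' | h'
    · subst h'; simp [S]
    · rw [show P.natDegree + m - 1 = (m - 1) + P.natDegree by omega,
        coeff_mul_add_eq_of_natDegree_le (natDegree_S_le r a) le_rfl, coeff_S, leadingCoeff]
  rw [T_apply, coeff_sub, hR, hS, sub_mul]

theorem exists_adjust (P : k[X]) :
    ∃ c : k, P - c • Q r a = 0 ∨ (P - c • Q r a).natDegree ≠ ∑ j, a j := by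
  refine ⟨P.coeff (∑ j, a j), ?_⟩
  by_cases hz : P - P.coeff (∑ j, a j) • Q r a = 0
  · exact Or.inl hz
  refine Or.inr fun h => hz (leadingCoeff_eq_zero.1 ?_)
  have h1 := (Q_monic r a).coeff_natDegree
  rw [natDegree_Q] at h1
  rw [leadingCoeff, h, coeff_sub, coeff_smul, h1, smul_eq_mul, mul_one, sub_self]

theorem degree_T_iff [CharZero k] (L M : ℕ) (hLM : ∀ p, p ≠ (∑ j, a j) → 0 < p + m →
      (p + m - 1 < L ↔ p < M)) (hA : m = 0 → ∑ j, a j = 0) (P : k[X]) :
    T r a P ∈ degreeLT k L ↔ ∃ c : k, P - c • Q r a ∈ degreeLT k M := by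
  obtain ⟨c, hc⟩ := exists_adjust r a P
  rw [← T_sub_smul_Q r a c]
  constructor
  · intro h
    refine ⟨c, ?_⟩
    rcases hc with hc | hc
    · rw [hc]; exact zero_mem _
    by_cases hz : P - c • Q r a = 0
    · rw [hz]; exact zero_mem _
    generalize P - c • Q r a = P₁ at *
    have hpos : 0 < P₁.natDegree + m := by
      by_contra hh
      exact hc (by rw [hA (by omega)]; omega)
    have hcoeff : (T r a P₁).coeff (P₁.natDegree + m - 1) ≠ 0 := by
      rw [coeff_T r a hpos]
      exact mul_ne_zero (sub_ne_zero.2 (by exact_mod_cast hc)) (leadingCoeff_ne_zero.2 hz)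
    rw [mem_degreeLT] at h
    have hlt : P₁.natDegree + m - 1 < L := by
      exact_mod_cast lt_of_le_of_lt (le_degree_of_ne_zero hcoeff) h
    rw [mem_degreeLT, degree_eq_natDegree hz]
    exact_mod_cast (hLM _ hc hpos).1 hlt
  · rintro ⟨c', h⟩
    rw [T_sub_smul_Q, ← T_sub_smul_Q r a c']
    generalize P - c' • Q r a = P₁ at *
    by_cases hzT : T r a P₁ = 0
    · rw [hzT]; exact zero_mem _
    obtain ⟨d, hd⟩ := exists_adjust r a P₁
    have hz : P₁ ≠ 0 := fun hz => hzT (by simp [hz])
    rw [mem_degreeLT, degree_eq_natDegree hz, Nat.cast_lt] at h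
    rw [mem_degreeLT, degree_eq_natDegree hzT, Nat.cast_lt]
    have hle := natDegree_T_le r a P₁
    by_cases hp : P₁.natDegree = ∑ j, a j
    · rcases hd with hd | hd
      · rw [← T_sub_smul_Q r a d, hd, map_zero] at hzT; exact absurd rfl hzT
      have hle' := natDegree_T_le r a (P₁ - d • Q r a)
      rw [T_sub_smul_Q] at hle'
      have hdlt : (P₁ - d • Q r a).natDegree ≤ P₁.natDegree := by
        refine (natDegree_sub_le _ _).trans (max_le le_rfl ((natDegree_smul_le _ _).trans ?_))
        rw [natDegree_Q, hp]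
      have hpos : 0 < (P₁ - d • Q r a).natDegree + m := by
        by_contra hh
        exact hd (by rw [hA (by omega)]; omega)
      have := (hLM _ hd hpos).2 (by omega)
      omega
    · have hpos : 0 < P₁.natDegree + m := by
        by_contra hh
        exact hp (by rw [hA (by omega)]; omega)
      have := (hLM _ hp hpos).2 h
      omega

theorem T_eq_zero_iff [CharZero k] (P : k[X]) : T r a P = 0 ↔ P ∈ Submodule.span k {Q r a} := by
  constructor
  · intro h
    obtain ⟨c, hc⟩ := exists_adjust r a P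
    rw [Submodule.mem_span_singleton]
    refine ⟨c, ?_⟩
    by_contra hne
    have hz : P - c • Q r a ≠ 0 := fun h0 => hne (sub_eq_zero.1 h0).symm
    rcases hc with hc | hc
    · exact hz hc
    rw [← T_sub_smul_Q r a c] at h
    generalize P - c • Q r a = P₁ at *
    have hpos : 0 < P₁.natDegree + m := by
      by_contra hh
      obtain rfl : m = 0 := by omega
      exact hc (by simp; omega)
    have := coeff_T r a hpos
    rw [h, coeff_zero] at this
    exact mul_ne_zero (sub_ne_zero.2 (by exact_mod_cast hc)) (leadingCoeff_ne_zero.2 hz) this.symm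
  · intro h
    obtain ⟨c, rfl⟩ := Submodule.mem_span_singleton.1 h
    rw [map_smul, T_Q, smul_zero]

end Groth.Agent.W4c4Lib.Polar
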